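import Mathlib
import Groth.Agent.S0083
import Groth.Agent.S2803

/-!
The locus of the base over which a morphism between proper schemes is a closed immersion is open,
and its formation commutes with base change.
-/

open CategoryTheory CategoryTheory.Limits AlgebraicGeometry TopologicalSpace

universe u

namespace K502.CI

/-- The open locus of the target over which a morphism is a closed immersion. -/
noncomputable def locus {X Y : Scheme.{u}} (f : X ⟶ Y) : Y.Opens :=
  sSup {U : Y.Opens | IsClosedImmersion (f ∣_ U)}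

theorem mem_locus_iff {X Y : Scheme.{u}} (f : X ⟶ Y) (y : Y) :
    y ∈ locus f ↔ ∃ U : Y.Opens, y ∈ U ∧ IsClosedImmersion (f ∣_ U) := by
  simp only [locus, Opens.mem_sSup, Set.mem_ofPred_eq]
  exact ⟨fun ⟨U, h, h'⟩ => ⟨U, h', h⟩, fun ⟨U, h, h'⟩ => ⟨U, h', h⟩⟩

/-- restriction of a cartesian square to an open subset of the target -/
theorem isPullback_restrict {X Y X' Y' : Scheme.{u}} {f : X ⟶ Y} {f' : X' ⟶ Y'} {a : X' ⟶ X}
    {b : Y' ⟶ Y} (h : IsPullback a f' f b) (U : Y.Opens) :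
    ∃ l : ((f' ⁻¹ᵁ (b ⁻¹ᵁ U) : X'.Opens) : Scheme.{u}) ⟶ ((f ⁻¹ᵁ U : X.Opens) : Scheme.{u}),
      IsPullback l (f' ∣_ (b ⁻¹ᵁ U)) (f ∣_ U) (b ∣_ U) := by
  have h1 := (isPullback_morphismRestrict f' (b ⁻¹ᵁ U)).flip
  have h3 := (isPullback_morphismRestrict f U).flip
  have h2 := h1.paste_horiz h
  have hb : (b ∣_ U) ≫ U.ι = (b ⁻¹ᵁ U).ι ≫ b := (isPullback_morphismRestrict b U).w
  refine ⟨h3.lift ((f' ⁻¹ᵁ b ⁻¹ᵁ U).ι ≫ a) ((f' ∣_ (b ⁻¹ᵁ U)) ≫ (b ∣_ U)) ?_, ?_⟩
  · rw [Category.assoc, Category.assoc, hb, ← Category.assoc _ (b ⁻¹ᵁ U).ι b, ← h1.w,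
      Category.assoc, h.w]
  · refine IsPullback.of_right (h₁₂ := (f ⁻¹ᵁ U).ι) (h₂₂ := U.ι) (v₁₃ := f) ?_ ?_ h3
    · rw [h3.lift_fst, hb]; exact h2
    · rw [h3.lift_snd]

theorem isClosedImmersion_of_le_locus {X Y X' Y' : Scheme.{u}} {f : X ⟶ Y} {f' : X' ⟶ Y'}
    {a : X' ⟶ X} {b : Y' ⟶ Y} (h : IsPullback a f' f b) (hb : Set.range b ⊆ (locus f : Set Y)) :
    IsClosedImmersion f' := by
  have hc : ∀ y' : Y', ∃ U : Y.Opens, b y' ∈ U ∧ IsClosedImmersion (f ∣_ U) :=
    fun y' => (mem_locus_iff f _).mp (hb ⟨y', rfl⟩)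
  choose U hU hU' using hc
  refine (IsZariskiLocalAtTarget.iff_of_iSup_eq_top (P := @IsClosedImmersion) (f := f')
    (fun y' => b ⁻¹ᵁ (U y')) ?_).mpr fun y' => ?_
  · rw [eq_top_iff]
    intro y' _
    simp only [Opens.mem_iSup]
    exact ⟨y', hU y'⟩
  · obtain ⟨l, hl⟩ := isPullback_restrict h (U y')
    have := hU' y'
    exact MorphismProperty.of_isPullback (P := @IsClosedImmersion) hl ‹_›

/-- a closed immersion into the spectrum of a field is empty or an isomorphism -/
theorem isEmpty_or_isIso {Z : Scheme.{u}} (K : Type u) [Field K] (i : Z ⟶ Spec (CommRingCat.of K))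
    [IsClosedImmersion i] : IsEmpty Z ∨ IsIso i := by
  by_cases h : Nonempty Z
  · right
    have : Surjective i := ⟨fun y => ⟨h.some, Subsingleton.elim (α := PrimeSpectrum _) _ _⟩⟩
    exact isIso_of_isClosedImmersion_of_surjective i
  · left
    exact not_nonempty_iff.mp h

theorem mem_locus_of_isClosedImmersion {X Y X' Y' : Scheme.{u}} {f : X ⟶ Y} [IsProper f]
    {f' : X' ⟶ Y'} {a : X' ⟶ X} {b : Y' ⟶ Y} (h : IsPullback a f' f b) [IsClosedImmersion f']
    (y' : Y') : b y' ∈ locus f := by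
  rw [mem_locus_iff, Groth.Agent.S2803.result]
  refine ⟨?_, ⊤, trivial, ?_⟩
  · have h1 := isPullback_fiberToSpecResidueField_of_isPullback h y'
    have h2 : IsClosedImmersion (f'.fiberToSpecResidueField y') :=
      MorphismProperty.of_isPullback (P := @IsClosedImmersion)
        (IsPullback.of_hasPullback f' (Y'.fromSpecResidueField y')) ‹_›
    have h3 : IsClosedImmersion (f.fiberToSpecResidueField (b y')) := by
      refine @MorphismProperty.of_isPullback_of_descendsAlong _ _ @IsClosedImmersion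
        (@Surjective ⊓ @Flat ⊓ @QuasiCompact : MorphismProperty Scheme.{u}) _ _ _ _ _ _ _ _
        Groth.Agent.S0083.result h1.flip ?_ h2
      refine ⟨⟨⟨fun y => ⟨IsLocalRing.closedPoint _, Subsingleton.elim (α := PrimeSpectrum _) _ _⟩⟩, ?_⟩,
        inferInstance⟩
      rw [HasRingHomProperty.Spec_iff (P := @Flat)]
      let _ := (b.residueFieldMap y').hom.toAlgebra
      exact (inferInstance : Module.Flat (Y.residueField (b y')) (Y'.residueField y'))
    exact isEmpty_or_isIso (Y.residueField (b y')) _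
  · exact MorphismProperty.of_isPullback (P := @UniversallyClosed) (isPullback_morphismRestrict f ⊤).flip
      inferInstance

theorem exists_opens_isClosedImmersion {X Y T : Scheme.{u}} (f : X ⟶ Y) (g : Y ⟶ T)
    [IsProper (f ≫ g)] [IsProper g] :
    ∃ U : T.Opens, ∀ (T' X' Y' : Scheme.{u}) (t : T' ⟶ T) (f' : X' ⟶ Y') (g' : Y' ⟶ T')
      (a : X' ⟶ X) (b : Y' ⟶ Y), IsPullback a f' f b → IsPullback b g' g t →
        (IsClosedImmersion f' ↔ Set.range t ⊆ (U : Set T)) := by
  have : IsProper f := IsProper.of_comp f g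
  refine ⟨⟨(g '' (locus f : Set Y)ᶜ)ᶜ, ?_⟩, ?_⟩
  · rw [isOpen_compl_iff]
    exact g.isClosedMap _ (locus f).isOpen.isClosed_compl
  · intro T' X' Y' t f' g' a b h1 h2
    constructor
    · rintro hc _ ⟨t', rfl⟩ ⟨y, hy, hyt⟩
      obtain ⟨z, hz1, hz2⟩ := Scheme.Pullback.exists_preimage_pullback (f := g) (g := t) y t' hyt
      apply hy
      have := mem_locus_of_isClosedImmersion h1 (h2.isoPullback.inv z)
      rw [← Scheme.Hom.comp_apply, h2.isoPullback_inv_fst, hz1] at this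
      exact this
    · intro ht
      refine isClosedImmersion_of_le_locus h1 ?_
      rintro _ ⟨y', rfl⟩
      by_contra hy
      apply ht ⟨g' y', rfl⟩
      refine ⟨b y', hy, ?_⟩
      rw [← Scheme.Hom.comp_apply, ← Scheme.Hom.comp_apply, h2.w]

end K502.CI
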